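import Mathlib

/-!
# S4546, X1: linear algebra (helper40)

* `split` : eigenspaces of an involution;
* `halve` : a pair of anticommuting operators with square `-1` over a finite field;
* `pow_dvd` : `n` commuting pairs: `2 ^ n ∣ dim`.
-/

set_option autoImplicit false

namespace Cfsg.Agent.H40.KKL

open Module

section

variable {k : Type*} [Field k] {V : Type*} [AddCommGroup V] [Module k V]

/-- the eigenspace -/
def E (A : Module.End k V) (x : k) : Submodule k V := LinearMap.ker (A - x • 1)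

theorem mem_E {A : Module.End k V} {x : k} {v : V} : v ∈ E A x ↔ A v = x • v := by
  unfold E
  rw [LinearMap.mem_ker, LinearMap.sub_apply, LinearMap.smul_apply, Module.End.one_apply, sub_eq_zero]

variable [FiniteDimensional k V]

/-- the two eigenspaces of an involution -/
theorem split (h2 : (2 : k) ≠ 0) {U : Submodule k V} {A : Module.End k V} (hA : ∀ u ∈ U, A u ∈ U)
    (hAA : ∀ u ∈ U, A (A u) = u) : finrank k U = finrank k ↥(U ⊓ E A 1) + finrank k ↥(U ⊓ E A (-1)) := by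
  have h1 : (U ⊓ E A 1) ⊔ (U ⊓ E A (-1)) = U := by
    apply le_antisymm
    · exact sup_le inf_le_left inf_le_left
    · intro u hu
      rw [Submodule.mem_sup]
      refine ⟨(2 : k)⁻¹ • (u + A u), ⟨U.smul_mem _ (U.add_mem hu (hA u hu)), ?_⟩, (2 : k)⁻¹ • (u - A u),
        ⟨U.smul_mem _ (U.sub_mem hu (hA u hu)), ?_⟩, ?_⟩
      · show (2 : k)⁻¹ • (u + A u) ∈ E A 1
        rw [mem_E, map_smul, map_add, hAA u hu, one_smul, add_comm]
      · show (2 : k)⁻¹ • (u - A u) ∈ E A (-1)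
        rw [mem_E, map_smul, map_sub, hAA u hu, neg_one_smul, ← smul_neg, neg_sub]
      · rw [← smul_add]
        have : u + A u + (u - A u) = (2 : k) • u := by rw [two_smul]; abel
        rw [this, smul_smul, inv_mul_cancel₀ h2, one_smul]
  have h3 : (U ⊓ E A 1) ⊓ (U ⊓ E A (-1)) = ⊥ := by
    rw [Submodule.eq_bot_iff]
    rintro v ⟨⟨-, hv1⟩, ⟨-, hv2⟩⟩
    have e1 := mem_E.1 hv1
    have e2 := mem_E.1 hv2
    rw [e1, one_smul, neg_one_smul] at e2
    have : (2 : k) • v = 0 := by rw [two_smul]; nth_rewrite 1 [e2]; exact neg_add_cancel v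
    exact (smul_eq_zero.1 this).resolve_left h2
  have h4 := Submodule.finrank_sup_add_finrank_inf_eq (U ⊓ E A 1) (U ⊓ E A (-1))
  rw [h1, h3, finrank_bot, add_zero] at h4
  exact h4

theorem le_of_inj {W₁ W₂ : Submodule k V} {L : Module.End k V} (h : ∀ w ∈ W₁, L w ∈ W₂)
    (hi : ∀ w ∈ W₁, L w = 0 → w = 0) : finrank k W₁ ≤ finrank k W₂ := by
  apply LinearMap.finrank_le_finrank_of_injective (f := (L.restrict (p := W₁) (q := W₂) h))
  rw [← LinearMap.ker_eq_bot, LinearMap.ker_eq_bot']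
  rintro ⟨w, hw⟩ hw0
  have h1 : L w = 0 := congrArg Subtype.val hw0
  exact Subtype.ext (hi w hw h1)

/-- a quaternion pair halves the dimension -/
theorem halve [Finite k] (h2 : (2 : k) ≠ 0) {U : Submodule k V} {I J : Module.End k V} (hI : ∀ u ∈ U, I u ∈ U)
    (hJ : ∀ u ∈ U, J u ∈ U) (hII : ∀ u ∈ U, I (I u) = -u) (hJJ : ∀ u ∈ U, J (J u) = -u)
    (hIJ : ∀ u ∈ U, I (J u) = -J (I u)) :
    ∃ W : Submodule k V, W ≤ U ∧ finrank k U = 2 * finrank k W ∧
      ∀ A : Module.End k V, (∀ u ∈ U, A u ∈ U) → (∀ u ∈ U, A (I u) = I (A u)) → (∀ u ∈ U, A (J u) = J (A u)) →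
        ∀ w ∈ W, A w ∈ W := by
  obtain ⟨α, β, hαβ⟩ : ∃ α β : k, α ^ 2 + β ^ 2 = -1 := by
    obtain ⟨p, hp⟩ := CharP.exists k
    have hp0 : p ≠ 0 := by
      rintro rfl
      have : CharZero k := CharP.charP_to_charZero k
      exact not_finite k
    have : NeZero p := ⟨hp0⟩
    obtain ⟨a, b, hab⟩ := CharP.sq_add_sq k p (-1)
    exact ⟨a, b, by simpa using hab⟩
  let P : Module.End k V := α • I + β • J
  have hP : ∀ u, P u = α • I u + β • J u := fun u => rfl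
  have hPU : ∀ u ∈ U, P u ∈ U := fun u hu => U.add_mem (U.smul_mem _ (hI u hu)) (U.smul_mem _ (hJ u hu))
  have hPP : ∀ u ∈ U, P (P u) = u := by
    intro u hu
    rw [hP (P u), hP u, map_add, map_add, map_smul, map_smul, map_smul, map_smul, hII u hu, hJJ u hu, hIJ u hu]
    have : α • (α • -u + β • -J (I u)) + β • (α • J (I u) + β • -u) = -(α ^ 2 + β ^ 2) • u := by module
    rw [this, hαβ, neg_neg, one_smul]
  have hPL : ∀ u ∈ U, P (I (J u)) = -I (J (P u)) := by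
    intro u hu
    have hJu := hJ u hu
    have hIu := hI u hu
    rw [hP (I (J u)), hP u, map_add, map_add, map_smul, map_smul, map_smul, map_smul]
    rw [hII _ hJu, hIJ u hu, map_neg, hJJ _ hIu, neg_neg, hJJ u hu, map_neg]
    have h5 : I (J (I u)) = J u := by
      rw [hIJ _ hIu, hII u hu, map_neg, neg_neg]
    rw [h5]
    module
  have hL0 : ∀ u ∈ U, I (J u) = 0 → u = 0 := by
    intro u hu h
    have h3 : I (I (J u)) = 0 := by rw [h, map_zero]
    rw [hII _ (hJ u hu), neg_eq_zero] at h3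
    have h4 : J (J u) = 0 := by rw [h3, map_zero]
    rwa [hJJ u hu, neg_eq_zero] at h4
  have hLU : ∀ u ∈ U, (I * J) u ∈ U := fun u hu => hI _ (hJ u hu)
  have h6 : finrank k ↥(U ⊓ E P 1) ≤ finrank k ↥(U ⊓ E P (-1)) := by
    refine le_of_inj (L := I * J) ?_ ?_
    · rintro w ⟨hw1, hw2⟩
      refine ⟨hLU w hw1, mem_E.2 ?_⟩
      show P (I (J w)) = (-1 : k) • I (J w)
      rw [hPL w hw1, mem_E.1 hw2, one_smul, neg_one_smul]
    · rintro w ⟨hw1, -⟩ h
      exact hL0 w hw1 h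
  have h7 : finrank k ↥(U ⊓ E P (-1)) ≤ finrank k ↥(U ⊓ E P 1) := by
    refine le_of_inj (L := I * J) ?_ ?_
    · rintro w ⟨hw1, hw2⟩
      refine ⟨hLU w hw1, mem_E.2 ?_⟩
      show P (I (J w)) = (1 : k) • I (J w)
      rw [hPL w hw1, mem_E.1 hw2, map_smul, map_smul, neg_one_smul, neg_neg, one_smul]
    · rintro w ⟨hw1, -⟩ h
      exact hL0 w hw1 h
  refine ⟨U ⊓ E P 1, inf_le_left, ?_, ?_⟩
  · rw [split h2 hPU hPP]
    omega
  · rintro A hA h8 h9 w ⟨hw1, hw2⟩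
    refine ⟨hA w hw1, mem_E.2 ?_⟩
    have h10 : P (A w) = A (P w) := by
      rw [hP, hP, map_add, map_smul, map_smul, h8 w hw1, h9 w hw1]
    rw [h10, mem_E.1 hw2, one_smul, one_smul]

/-- commuting quaternion pairs -/
theorem pow_dvd [Finite k] (h2 : (2 : k) ≠ 0) (l : List (Module.End k V × Module.End k V))
    (hl : l.Pairwise fun p q => p.1 * q.1 = q.1 * p.1 ∧ p.1 * q.2 = q.2 * p.1 ∧ p.2 * q.1 = q.1 * p.2 ∧
      p.2 * q.2 = q.2 * p.2) :
    ∀ U : Submodule k V, (∀ p ∈ l, (∀ u ∈ U, p.1 u ∈ U) ∧ (∀ u ∈ U, p.2 u ∈ U) ∧ (∀ u ∈ U, p.1 (p.1 u) = -u) ∧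
      (∀ u ∈ U, p.2 (p.2 u) = -u) ∧ ∀ u ∈ U, p.1 (p.2 u) = -p.2 (p.1 u)) → 2 ^ l.length ∣ finrank k U := by
  induction l with
  | nil => intro U _; simp
  | cons p l ih =>
    intro U hU
    rw [List.pairwise_cons] at hl
    obtain ⟨h3, h4, h5, h6, h7⟩ := hU p List.mem_cons_self
    obtain ⟨W, hW1, hW2, hW3⟩ := halve h2 h3 h4 h5 h6 h7
    have h8 := ih hl.2 W (fun q hq => by
      obtain ⟨g1, g2, g3, g4, g5⟩ := hU q (List.mem_cons_of_mem _ hq)
      obtain ⟨c1, c2, c3, c4⟩ := hl.1 q hq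
      refine ⟨?_, ?_, fun u hu => g3 u (hW1 hu), fun u hu => g4 u (hW1 hu), fun u hu => g5 u (hW1 hu)⟩
      · exact hW3 q.1 g1 (fun u _ => (LinearMap.congr_fun c1 u).symm) (fun u _ => (LinearMap.congr_fun c3 u).symm)
      · exact hW3 q.2 g2 (fun u _ => (LinearMap.congr_fun c2 u).symm) (fun u _ => (LinearMap.congr_fun c4 u).symm))
    rw [List.length_cons, pow_succ, mul_comm, hW2]
    exact mul_dvd_mul_left 2 h8

end

section three

variable {k : Type*} [Field k] {V : Type*} [AddCommGroup V] [Module k V] [FiniteDimensional k V]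

/-- simultaneous eigenspace -/
def P (A B C : Module.End k V) (x y z : k) : Submodule k V := E A x ⊓ (E B y ⊓ E C z)

theorem split_two (h2 : (2 : k) ≠ 0) {U : Submodule k V} {A B : Module.End k V} (hA : ∀ u ∈ U, A u ∈ U)
    (hAA : ∀ u ∈ U, A (A u) = u) (hB : ∀ u ∈ U, B u ∈ U) (hBB : ∀ u ∈ U, B (B u) = u) (hAB : A * B = B * A) :
    finrank k U = finrank k ↥(U ⊓ E A 1 ⊓ E B 1) + finrank k ↥(U ⊓ E A 1 ⊓ E B (-1)) +
      (finrank k ↥(U ⊓ E A (-1) ⊓ E B 1) + finrank k ↥(U ⊓ E A (-1) ⊓ E B (-1))) := by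
  have key : ∀ x : k, ∀ u ∈ U ⊓ E A x, B u ∈ U ⊓ E A x := by
    rintro x u ⟨h1, h3⟩
    refine ⟨hB u h1, mem_E.2 ?_⟩
    have h4 : A (B u) = B (A u) := LinearMap.congr_fun hAB u
    rw [h4, mem_E.1 h3, map_smul]
  rw [split h2 hA hAA, split h2 (key 1) (fun u hu => hBB u hu.1), split h2 (key (-1)) (fun u hu => hBB u hu.1)]

theorem split_three (h2 : (2 : k) ≠ 0) {U : Submodule k V} {A B C : Module.End k V} (hA : ∀ u ∈ U, A u ∈ U)
    (hAA : ∀ u ∈ U, A (A u) = u) (hB : ∀ u ∈ U, B u ∈ U) (hBB : ∀ u ∈ U, B (B u) = u) (hC : ∀ u ∈ U, C u ∈ U)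
    (hCC : ∀ u ∈ U, C (C u) = u) (hAB : A * B = B * A) (hAC : A * C = C * A) (hBC : B * C = C * B) :
    finrank k U = finrank k ↥(U ⊓ P A B C 1 1 1) + finrank k ↥(U ⊓ P A B C 1 1 (-1)) +
      (finrank k ↥(U ⊓ P A B C 1 (-1) 1) + finrank k ↥(U ⊓ P A B C 1 (-1) (-1))) +
      (finrank k ↥(U ⊓ P A B C (-1) 1 1) + finrank k ↥(U ⊓ P A B C (-1) 1 (-1)) +
      (finrank k ↥(U ⊓ P A B C (-1) (-1) 1) + finrank k ↥(U ⊓ P A B C (-1) (-1) (-1)))) := by
  have key : ∀ (D : Module.End k V) (_ : A * D = D * A) (_ : ∀ u ∈ U, D u ∈ U), ∀ x : k, ∀ u ∈ U ⊓ E A x,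
      D u ∈ U ⊓ E A x := by
    rintro D hD hDU x u ⟨h1, h3⟩
    refine ⟨hDU u h1, mem_E.2 ?_⟩
    have h4 : A (D u) = D (A u) := LinearMap.congr_fun hD u
    rw [h4, mem_E.1 h3, map_smul]
  have e : ∀ x y z : k, U ⊓ P A B C x y z = U ⊓ E A x ⊓ E B y ⊓ E C z := by
    intro x y z
    unfold P
    rw [inf_assoc, inf_assoc]
  rw [split h2 hA hAA, split_two h2 (key B hAB hB 1) (fun u hu => hBB u hu.1) (key C hAC hC 1)
    (fun u hu => hCC u hu.1) hBC, split_two h2 (key B hAB hB (-1)) (fun u hu => hBB u hu.1) (key C hAC hC (-1))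
    (fun u hu => hCC u hu.1) hBC]
  rw [e 1 1 1, e 1 1 (-1), e 1 (-1) 1, e 1 (-1) (-1), e (-1) 1 1, e (-1) 1 (-1), e (-1) (-1) 1, e (-1) (-1) (-1)]

omit [FiniteDimensional k V] in
/-- an operator acting as a scalar `c = ± 1` on a piece -/
theorem piece_neg {W : Submodule k V} {S : Module.End k V} (h : ∀ w ∈ W, S w = -w) :
    finrank k ↥(E S (-1) ⊓ W) = finrank k W := by
  have : E S (-1) ⊓ W = W := by
    apply inf_eq_right.2
    intro w hw
    rw [mem_E, h w hw, neg_one_smul]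
  rw [this]

omit [FiniteDimensional k V] in
theorem piece_pos (h2 : (2 : k) ≠ 0) {W : Submodule k V} {S : Module.End k V} (h : ∀ w ∈ W, S w = w) :
    finrank k ↥(E S (-1) ⊓ W) = 0 := by
  have : E S (-1) ⊓ W = ⊥ := by
    rw [Submodule.eq_bot_iff]
    rintro w ⟨h1, h3⟩
    have h4 := mem_E.1 h1
    rw [h w h3, neg_one_smul] at h4
    have : (2 : k) • w = 0 := by rw [two_smul]; nth_rewrite 1 [h4]; exact neg_add_cancel w
    exact (smul_eq_zero.1 this).resolve_left h2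
  rw [this, finrank_bot]

end three

end Cfsg.Agent.H40.KKL
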