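import Mathlib

/-!
# S4546, X1: facts on `PGL₂(F)`, `2 ≠ 0` (helper40)

* `comm_of_comm` : the centralizer of a nonscalar 2 × 2 matrix is commutative;
* `pgl_q8` : `i² = j² = t`, `i j = t j i` in `PGL₂(F)` implies `t = 1`;
* `pgl_inv` : involutions commuting with an element `≠ 1` of odd order are equal.
-/

set_option autoImplicit false

namespace Cfsg.Agent.H40.KKL

open Matrix

section mat

variable {F : Type*} [Field F]

theorem zero_of {a b : F} (ha : a ≠ 0) (h : a * b = 0) : b = 0 := (mul_eq_zero.1 h).resolve_left ha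

/-- the commutation relations of 2 × 2 matrices -/
theorem comm_iff (A T : Matrix (Fin 2) (Fin 2) F) : A * T = T * A ↔
    A 0 1 * T 1 0 = T 0 1 * A 1 0 ∧ (A 0 0 - A 1 1) * T 0 1 = (T 0 0 - T 1 1) * A 0 1 ∧
      (A 0 0 - A 1 1) * T 1 0 = (T 0 0 - T 1 1) * A 1 0 := by
  constructor
  · intro h
    have h00 := congrFun (congrFun h 0) 0
    have h01 := congrFun (congrFun h 0) 1
    have h10 := congrFun (congrFun h 1) 0
    simp only [Matrix.mul_apply, Fin.sum_univ_two] at h00 h01 h10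
    refine ⟨?_, ?_, ?_⟩
    · linear_combination h00
    · linear_combination h01
    · linear_combination -h10
  · rintro ⟨h1, h2, h3⟩
    ext i j
    fin_cases i <;> fin_cases j <;> simp only [Matrix.mul_apply, Fin.sum_univ_two, Fin.zero_eta, Fin.mk_one]
    · linear_combination h1
    · linear_combination h2
    · linear_combination -h3
    · linear_combination -h1

/-- scalar matrices -/
def Sc (T : Matrix (Fin 2) (Fin 2) F) : Prop := T 0 1 = 0 ∧ T 1 0 = 0 ∧ T 0 0 - T 1 1 = 0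

theorem sc_iff (T : Matrix (Fin 2) (Fin 2) F) : Sc T ↔ ∃ c : F, T = Matrix.scalar (Fin 2) c := by
  constructor
  · rintro ⟨h1, h2, h3⟩
    refine ⟨T 0 0, ?_⟩
    ext i j
    fin_cases i <;> fin_cases j <;> simp [h1, h2]
    exact (sub_eq_zero.1 h3).symm
  · rintro ⟨c, rfl⟩
    simp [Sc]

theorem cross {a b c a' b' c' p q r : F} (h : ¬ (p = 0 ∧ q = 0 ∧ r = 0)) (h1 : a * q = p * b) (h2 : a * r = p * c)
    (h3 : b * r = q * c) (h1' : a' * q = p * b') (h2' : a' * r = p * c') (h3' : b' * r = q * c') :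
    a * b' = a' * b ∧ a * c' = a' * c ∧ b * c' = b' * c := by
  by_cases hp : p = 0
  · by_cases hq : q = 0
    · have hr : r ≠ 0 := fun hr => h ⟨hp, hq, hr⟩
      subst hp hq
      rw [zero_mul] at h2 h3 h2' h3'
      have ha := (mul_eq_zero.1 h2).resolve_right hr
      have hb := (mul_eq_zero.1 h3).resolve_right hr
      have ha' := (mul_eq_zero.1 h2').resolve_right hr
      have hb' := (mul_eq_zero.1 h3').resolve_right hr
      simp [ha, hb, ha', hb']
    · subst hp
      rw [zero_mul] at h1 h1'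
      have ha := (mul_eq_zero.1 h1).resolve_right hq
      have ha' := (mul_eq_zero.1 h1').resolve_right hq
      refine ⟨by simp [ha, ha'], by simp [ha, ha'], ?_⟩
      apply mul_left_cancel₀ hq
      linear_combination b' * h3 - b * h3'
  · refine ⟨?_, ?_, ?_⟩
    · apply mul_left_cancel₀ hp
      linear_combination a' * h1 - a * h1'
    · apply mul_left_cancel₀ hp
      linear_combination a' * h2 - a * h2'
    · apply mul_left_cancel₀ (mul_ne_zero hp hp)
      linear_combination (-p * c' ) * h1 - a * q * h2' + p * c * h1' + a' * q * h2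

/-- the centralizer of a nonscalar 2 × 2 matrix is commutative -/
theorem comm_of_comm {A B T : Matrix (Fin 2) (Fin 2) F} (hT : ¬ Sc T) (hA : A * T = T * A) (hB : B * T = T * B) :
    A * B = B * A := by
  obtain ⟨a1, a2, a3⟩ := (comm_iff A T).1 hA
  obtain ⟨b1, b2, b3⟩ := (comm_iff B T).1 hB
  have h := cross (p := T 0 0 - T 1 1) (q := T 0 1) (r := T 1 0) (fun h => hT ⟨h.2.1, h.2.2, h.1⟩)
    a2 a3 a1 b2 b3 b1
  exact (comm_iff A B).2 ⟨h.2.2, h.1, h.2.1⟩

/-- a nonscalar matrix with scalar square has trace 0 -/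
theorem trace_zero {A : Matrix (Fin 2) (Fin 2) F} (hA : ¬ Sc A) (h : Sc (A * A)) : A 0 0 + A 1 1 = 0 := by
  obtain ⟨h1, h2, h3⟩ := h
  simp only [Matrix.mul_apply, Fin.sum_univ_two] at h1 h2 h3
  by_contra hne
  apply hA
  refine ⟨?_, ?_, ?_⟩
  · refine zero_of hne ?_
    linear_combination h1
  · refine zero_of hne ?_
    linear_combination h2
  · refine zero_of hne ?_
    linear_combination h3

/-- commuting nonscalar matrices with scalar squares have a scalar product -/
theorem sc_mul {A B : Matrix (Fin 2) (Fin 2) F} (h2 : (2 : F) ≠ 0) (hA : ¬ Sc A) (hB : ¬ Sc B) (hA2 : Sc (A * A))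
    (hB2 : Sc (B * B)) (h : A * B = B * A) : Sc (A * B) := by
  have tA := trace_zero hA hA2
  have tB := trace_zero hB hB2
  obtain ⟨h1, h3, h4⟩ := (comm_iff A B).1 h
  refine ⟨?_, ?_, ?_⟩
  · simp only [Matrix.mul_apply, Fin.sum_univ_two]
    refine zero_of h2 ?_
    linear_combination h3 + B 0 1 * tA + A 0 1 * tB
  · simp only [Matrix.mul_apply, Fin.sum_univ_two]
    refine zero_of h2 ?_
    linear_combination -h4 + A 1 0 * tB + B 1 0 * tA
  · simp only [Matrix.mul_apply, Fin.sum_univ_two]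
    linear_combination h1 + A 0 0 * tB - B 1 1 * tA

end mat

section pgl

variable {F : Type*} [Field F]

abbrev PGL2 (F : Type*) [Field F] : Type _ := Matrix.GeneralLinearGroup (Fin 2) F ⧸ Subgroup.center (Matrix.GeneralLinearGroup (Fin 2) F)

theorem center_iff {A : GL (Fin 2) F} : A ∈ Subgroup.center (GL (Fin 2) F) ↔ Sc (A : Matrix (Fin 2) (Fin 2) F) := by
  rw [Matrix.GeneralLinearGroup.mem_center_iff_val_mem_range_scalar, sc_iff]
  constructor
  · rintro ⟨c, hc⟩
    exact ⟨c, hc.symm⟩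
  · rintro ⟨c, hc⟩
    exact ⟨c, hc.symm⟩

theorem mk_one_iff {A : GL (Fin 2) F} : (A : PGL2 F) = 1 ↔ Sc (A : Matrix (Fin 2) (Fin 2) F) := by
  rw [QuotientGroup.eq_one_iff, center_iff]

/-- equality up to scalars -/
theorem mk_eq {A B : GL (Fin 2) F} (h : (A : PGL2 F) = B) : ∃ c : F, c ≠ 0 ∧
    (A : Matrix (Fin 2) (Fin 2) F) = c • (B : Matrix (Fin 2) (Fin 2) F) := by
  have h1 : A⁻¹ * B ∈ Subgroup.center (GL (Fin 2) F) := QuotientGroup.eq.1 h
  have h2 : B⁻¹ * A ∈ Subgroup.center (GL (Fin 2) F) := by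
    have := inv_mem h1
    rwa [_root_.mul_inv_rev, inv_inv] at this
  rw [Matrix.GeneralLinearGroup.mem_center_iff_val_mem_range_scalar] at h2
  obtain ⟨c, hc⟩ := h2
  have h3 : (A : Matrix (Fin 2) (Fin 2) F) = c • (B : Matrix (Fin 2) (Fin 2) F) := by
    have h4 : (A : Matrix (Fin 2) (Fin 2) F) = (B : Matrix (Fin 2) (Fin 2) F) * ((B⁻¹ * A : GL (Fin 2) F) : Matrix (Fin 2) (Fin 2) F) := by
      rw [← Units.val_mul, mul_inv_cancel_left]
    rw [h4, ← hc]
    ext i j
    fin_cases i <;> fin_cases j <;> simp [Matrix.mul_apply, Fin.sum_univ_two, mul_comm]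
  refine ⟨c, ?_, h3⟩
  rintro rfl
  rw [zero_smul] at h3
  exact A.ne_zero h3

theorem sc_smul {c : F} (hc : c ≠ 0) (A : Matrix (Fin 2) (Fin 2) F) : Sc (c • A) ↔ Sc A := by
  unfold Sc
  simp only [Matrix.smul_apply, smul_eq_mul, ← mul_sub, mul_eq_zero, hc, false_or]

/-- elements of the centralizer of an element `≠ 1` of `PGL₂` of odd order come from commuting matrices -/
theorem comm_of_odd {X A : GL (Fin 2) F} (hX : Odd (orderOf (X : PGL2 F)))
    (h : (A : PGL2 F) * X = X * A) :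
    (A : Matrix (Fin 2) (Fin 2) F) * (X : Matrix (Fin 2) (Fin 2) F) = X * A := by
  obtain ⟨c, hc, h1⟩ := mk_eq (A := A * X) (B := X * A) h
  rw [Units.val_mul, Units.val_mul] at h1
  -- determinants
  have hd : c ^ 2 = 1 := by
    have h3 := congrArg Matrix.det h1
    rw [Matrix.det_mul, Matrix.det_smul, Matrix.det_mul, Fintype.card_fin] at h3
    have hA : (A : Matrix (Fin 2) (Fin 2) F).det ≠ 0 := (Matrix.isUnits_det_units A).ne_zero
    have hX : (X : Matrix (Fin 2) (Fin 2) F).det ≠ 0 := (Matrix.isUnits_det_units X).ne_zero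
    have h4 : (A : Matrix (Fin 2) (Fin 2) F).det * (X : Matrix (Fin 2) (Fin 2) F).det ≠ 0 := mul_ne_zero hA hX
    apply mul_right_cancel₀ h4
    rw [one_mul]
    linear_combination -h3
  have hpow : ∀ n : ℕ, (A : Matrix (Fin 2) (Fin 2) F) * (X : Matrix (Fin 2) (Fin 2) F) ^ n =
      c ^ n • ((X : Matrix (Fin 2) (Fin 2) F) ^ n * A) := by
    intro n
    induction n with
    | zero => simp
    | succ n ih =>
      rw [pow_succ (X : Matrix (Fin 2) (Fin 2) F), ← mul_assoc, ih, Matrix.smul_mul, mul_assoc, h1, Matrix.mul_smul,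
        smul_smul, ← pow_succ, mul_assoc]
  obtain ⟨m, hm⟩ := hX
  have hone : (X : PGL2 F) ^ orderOf (X : PGL2 F) = 1 := pow_orderOf_eq_one _
  have hsc : Sc ((X : Matrix (Fin 2) (Fin 2) F) ^ orderOf (X : PGL2 F)) := by
    have h5 : ((X ^ orderOf (X : PGL2 F) : GL (Fin 2) F) : PGL2 F) = 1 := hone
    rw [mk_one_iff, Units.val_pow_eq_pow_val] at h5
    exact h5
  obtain ⟨e, he⟩ := (sc_iff _).1 hsc
  have h6 := hpow (orderOf (X : PGL2 F))
  have he0 : e ≠ 0 := by
    rintro rfl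
    rw [map_zero] at he
    have h7 : ((X ^ orderOf (X : PGL2 F) : GL (Fin 2) F) : Matrix (Fin 2) (Fin 2) F) = 0 := by
      rw [Units.val_pow_eq_pow_val, he]
    exact (X ^ orderOf (X : PGL2 F)).ne_zero h7
  have h7 : c ^ orderOf (X : PGL2 F) = 1 := by
    rw [he, (Matrix.scalar_commute e (fun r => mul_comm _ _) (A : Matrix (Fin 2) (Fin 2) F)).eq] at h6
    by_contra hne
    have h8 : (1 - c ^ orderOf (X : PGL2 F)) • ((A : Matrix (Fin 2) (Fin 2) F) * Matrix.scalar (Fin 2) e) = 0 := by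
      rw [sub_smul, one_smul, ← h6, sub_self]
    rw [smul_eq_zero] at h8
    rcases h8 with h8 | h8
    · exact hne (sub_eq_zero.1 h8).symm
    · have h9 := congrArg Matrix.det h8
      rw [Matrix.det_mul, Matrix.det_zero, mul_eq_zero] at h9
      rcases h9 with h9 | h9
      · exact (Matrix.isUnits_det_units A).ne_zero h9
      · simp at h9
        exact he0 h9
  have h8 : c = 1 := by
    rw [hm, pow_succ, pow_mul, hd, one_pow, one_mul] at h7
    exact h7
  rw [h1, h8, one_smul]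

/-- involutions of `PGL₂` commuting with an element `≠ 1` of odd order -/
theorem pgl_inv (h2 : (2 : F) ≠ 0) {x a b : PGL2 F} (hx : x ≠ 1) (hodd : Odd (orderOf x)) (ha : a * x = x * a)
    (hb : b * x = x * b) (haa : a * a = 1) (hbb : b * b = 1) : a = 1 ∨ b = 1 ∨ a * b = 1 := by
  obtain ⟨X, rfl⟩ := QuotientGroup.mk_surjective x
  obtain ⟨A, rfl⟩ := QuotientGroup.mk_surjective a
  obtain ⟨B, rfl⟩ := QuotientGroup.mk_surjective b
  by_cases hA : Sc (A : Matrix (Fin 2) (Fin 2) F)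
  · exact Or.inl (mk_one_iff.2 hA)
  by_cases hB : Sc (B : Matrix (Fin 2) (Fin 2) F)
  · exact Or.inr (Or.inl (mk_one_iff.2 hB))
  right; right
  have h3 := comm_of_odd hodd ha
  have h4 := comm_of_odd hodd hb
  have hX : ¬ Sc (X : Matrix (Fin 2) (Fin 2) F) := fun h => hx (mk_one_iff.2 h)
  have h5 := comm_of_comm hX h3 h4
  have h6 : Sc ((A : Matrix (Fin 2) (Fin 2) F) * (A : Matrix (Fin 2) (Fin 2) F)) := by
    have : ((A * A : GL (Fin 2) F) : PGL2 F) = 1 := haa
    rwa [mk_one_iff, Units.val_mul] at this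
  have h7 : Sc ((B : Matrix (Fin 2) (Fin 2) F) * (B : Matrix (Fin 2) (Fin 2) F)) := by
    have : ((B * B : GL (Fin 2) F) : PGL2 F) = 1 := hbb
    rwa [mk_one_iff, Units.val_mul] at this
  have h8 := sc_mul h2 hA hB h6 h7 h5
  have : ((A * B : GL (Fin 2) F) : PGL2 F) = 1 := by rw [mk_one_iff, Units.val_mul]; exact h8
  exact this

/-- `Q₈` does not embed in `PGL₂` -/
theorem pgl_q8 {t i j : PGL2 F} (hi : i * i = t) (hj : j * j = t) (hij : i * j = t * (j * i)) : t = 1 := by
  obtain ⟨T, rfl⟩ := QuotientGroup.mk_surjective t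
  obtain ⟨I, rfl⟩ := QuotientGroup.mk_surjective i
  obtain ⟨J, rfl⟩ := QuotientGroup.mk_surjective j
  by_contra hne
  have hT : ¬ Sc (T : Matrix (Fin 2) (Fin 2) F) := fun h => hne (mk_one_iff.2 h)
  obtain ⟨c, hc, h1⟩ := mk_eq (A := T) (B := I * I) hi.symm
  obtain ⟨d, hd, h2⟩ := mk_eq (A := T) (B := J * J) hj.symm
  rw [Units.val_mul] at h1 h2
  have h3 : (I : Matrix (Fin 2) (Fin 2) F) * T = T * I := by
    rw [h1, Matrix.mul_smul, Matrix.smul_mul, mul_assoc]
  have h4 : (J : Matrix (Fin 2) (Fin 2) F) * T = T * J := by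
    rw [h2, Matrix.mul_smul, Matrix.smul_mul, mul_assoc]
  have h5 := comm_of_comm hT h3 h4
  have h6 : I * J = J * I := Units.ext (by rw [Units.val_mul, Units.val_mul]; exact h5)
  apply hne
  have h7 : ((I * J : GL (Fin 2) F) : PGL2 F) = ((J * I : GL (Fin 2) F) : PGL2 F) := by rw [h6]
  have h8 : (I : PGL2 F) * J = J * I := h7
  rw [hij] at h8
  exact mul_eq_right.1 h8

end pgl

end Cfsg.Agent.H40.KKL
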