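import Cfsg.Agent.H613.KKL.Defs
import Cfsg.Agent.H613.KKL.CI
import Cfsg.Agent.H40.KKL.PGLTwo
import Cfsg.Agent.H40.KKL.Halve

/-!
# S4546, X1: the classical involution argument (helper40, proof of helper613)
-/

set_option autoImplicit false

namespace Cfsg.Agent.H40.KKL

open Cfsg Cfsg.Agent.H613.KKL Module

universe u

section group

variable {K : Type u} [Group K]

/-- `d` centralizes `J` -/
def Cz (J : Subgroup K) (d : K) : Prop := ∀ h ∈ J, d * h = h * d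

theorem Cz.one (J : Subgroup K) : Cz J 1 := fun h _ => by rw [one_mul, mul_one]

theorem Cz.mul {J : Subgroup K} {d e : K} (hd : Cz J d) (he : Cz J e) : Cz J (d * e) := by
  intro h hh
  rw [mul_assoc, he h hh, ← mul_assoc, hd h hh, mul_assoc]

theorem Cz.inv {J : Subgroup K} {d : K} (hd : Cz J d) : Cz J d⁻¹ := by
  intro h hh
  have h1 : Commute d h := hd h hh
  exact h1.inv_left.eq

/-- `Q₈ ≤ C(g)` acts on `J_g`: the centre acts trivially -/
theorem cz_of_q8 {g : K} {J : Subgroup K} (hg : CI g J) {t i j : K} (hi : i * i = t) (hj : j * j = t)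
    (hij : i * j = t * (j * i)) (hig : i * g = g * i) (hjg : j * g = g * j) : Cz J t := by
  obtain ⟨F, _, _, f, -, hf⟩ := hg.act
  have htg : t * g = g * t := by
    have h1 : Commute i g := hig
    rw [← hi]
    exact (h1.mul_left h1).eq
  have mi : i ∈ Subgroup.centralizer ({g} : Set K) := Subgroup.mem_centralizer_singleton_iff.2 hig
  have mj : j ∈ Subgroup.centralizer ({g} : Set K) := Subgroup.mem_centralizer_singleton_iff.2 hjg
  have mt : t ∈ Subgroup.centralizer ({g} : Set K) := Subgroup.mem_centralizer_singleton_iff.2 htg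
  have h1 : f ⟨t, mt⟩ = 1 := by
    refine pgl_q8 (i := f ⟨i, mi⟩) (j := f ⟨j, mj⟩) ?_ ?_ ?_
    · rw [← map_mul]
      exact congrArg f (Subtype.ext hi)
    · rw [← map_mul]
      exact congrArg f (Subtype.ext hj)
    · rw [← map_mul, ← map_mul, ← map_mul]
      exact congrArg f (Subtype.ext hij)
  exact (hf ⟨t, mt⟩).1 h1

/-- `t` centralizes `J_t` -/
theorem ci_cz {t : K} {J : Subgroup K} (h : CI t J) : Cz J t := by
  obtain ⟨i, -, j, -, hi, hj, hij⟩ := h.q8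
  exact cz_of_q8 h hi hj hij (by rw [← hi, mul_assoc]) (by rw [← hj, mul_assoc])

/-- symmetry -/
theorem ci_symm {t g : K} {Jt Jg : Subgroup K} (ht : CI t Jt) (hg : CI g Jg) (h : Cz Jt g) : Cz Jg t := by
  obtain ⟨i, mi, j, mj, hi, hj, hij⟩ := ht.q8
  exact cz_of_q8 hg hi hj hij (h i mi).symm (h j mj).symm

end group

section conf

variable {K : Type u} [Group K] [Finite K] {D : Subgroup K} {x : K}

omit [Finite K] in
theorem comm_D (hc : E8 D) {d e : K} (hd : d ∈ D) (he : e ∈ D) : d * e = e * d := by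
  have h1 := hc.inv _ (mul_mem hd he)
  have h2 := hc.inv d hd
  have h3 := hc.inv e he
  calc d * e = (d * e)⁻¹ := eq_inv_of_mul_eq_one_left h1
    _ = e⁻¹ * d⁻¹ := mul_inv_rev _ _
    _ = e * d := by rw [inv_eq_of_mul_eq_one_left h2, inv_eq_of_mul_eq_one_left h3]

omit [Finite K] in
/-- `x` does not centralize `J_t` -/
theorem not_cz_x (hc : Cfg0 D x) {t : K} (ht : t ∈ D) (ht1 : t ≠ 1) {J : Subgroup K} (hJ : CI t J) : ¬ Cz J x := by
  intro h
  obtain ⟨i, mi, j, mj, hi, hj, hij⟩ := hJ.q8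
  have hti : i * t = t * i := by rw [← hi, mul_assoc]
  have h4 : i ^ 4 = 1 := by
    have : i ^ 4 = (i * i) * (i * i) := by simp only [pow_succ, pow_zero, one_mul, mul_assoc]
    rw [this, hi, hc.e8.inv t ht]
  have hQ : IsPGroup 2 ↥(Subgroup.zpowers i) := by
    rintro ⟨_, n, rfl⟩
    refine ⟨2, Subtype.ext ?_⟩
    show (i ^ n) ^ 2 ^ 2 = 1
    have h5 : (2 : ℕ) ^ 2 = 4 := rfl
    rw [h5, ← zpow_natCast, ← zpow_mul, mul_comm, zpow_mul, zpow_natCast, h4, one_zpow]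
  obtain ⟨c, hcx, hcQ⟩ := hc.syl (Subgroup.zpowers i) hQ (by
    rintro _ ⟨n, rfl⟩
    have h1 : Commute x i := h i mi
    exact (h1.symm.zpow_left n).eq)
  have h5 := hc.e8.inv _ (hcQ i (Subgroup.mem_zpowers i))
  apply ht1
  rw [← hi]
  calc i * i = c⁻¹ * (c * i * c⁻¹ * (c * i * c⁻¹)) * c := by group
    _ = 1 := by rw [h5]; group

omit [Finite K] in
/-- index at most two -/
theorem F1 (hc : Cfg0 D x) {t : K} (ht : t ∈ D) (ht1 : t ≠ 1) {J : Subgroup K} (hJ : CI t J) {d e : K} (hd : d ∈ D)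
    (he : e ∈ D) : Cz J d ∨ Cz J e ∨ Cz J (d * e) := by
  have hx := not_cz_x hc ht ht1 hJ
  obtain ⟨F, _, _, f, h2, hf⟩ := hJ.act
  have mem : ∀ {d}, d ∈ D → d ∈ Subgroup.centralizer ({t} : Set K) := fun hd =>
    Subgroup.mem_centralizer_singleton_iff.2 (comm_D hc.e8 hd ht)
  have mx : x ∈ Subgroup.centralizer ({t} : Set K) := Subgroup.mem_centralizer_singleton_iff.2 (hc.comm t ht).symm
  have hfx : f ⟨x, mx⟩ ≠ 1 := fun h => hx ((hf _).1 h)
  have hodd : Odd (orderOf (f ⟨x, mx⟩)) := by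
    refine hc.odd.of_dvd_nat ?_
    have h1 : orderOf (f ⟨x, mx⟩) ∣ orderOf (⟨x, mx⟩ : ↥(Subgroup.centralizer ({t} : Set K))) := orderOf_map_dvd f _
    rwa [Subgroup.orderOf_mk] at h1
  have hcm : ∀ {d} (hd : d ∈ D), f ⟨d, mem hd⟩ * f ⟨x, mx⟩ = f ⟨x, mx⟩ * f ⟨d, mem hd⟩ := by
    intro d hd
    rw [← map_mul, ← map_mul]
    exact congrArg f (Subtype.ext (hc.comm d hd))
  have hsq : ∀ {d} (hd : d ∈ D), f ⟨d, mem hd⟩ * f ⟨d, mem hd⟩ = 1 := by
    intro d hd
    rw [← map_mul, ← map_one f]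
    exact congrArg f (Subtype.ext (hc.e8.inv d hd))
  rcases pgl_inv h2 hfx hodd (hcm hd) (hcm he) (hsq hd) (hsq he) with h | h | h
  · exact Or.inl ((hf _).1 h)
  · exact Or.inr (Or.inl ((hf _).1 h))
  · right; right
    rw [← map_mul] at h
    exact (hf _).1 h

omit [Finite K] in
/-- transitivity -/
theorem exists_w {y : K} (hy : Seven D y) {a b : K} (ha : a ∈ D) (ha1 : a ≠ 1) (hb : b ∈ D) (hb1 : b ≠ 1) :
    ∃ w : K, (∀ d : K, w * d * w⁻¹ ∈ D ↔ d ∈ D) ∧ w * a * w⁻¹ = b := by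
  obtain ⟨n, hn⟩ := hy.trans a ha ha1 b hb hb1
  refine ⟨y ^ n, ?_, hn⟩
  clear hn
  induction n with
  | zero => intro d; simp
  | succ n ih =>
    intro d
    have h1 : y ^ (n + 1) * d * (y ^ (n + 1))⁻¹ = y ^ n * (y * d * y⁻¹) * (y ^ n)⁻¹ := by
      rw [pow_succ]; group
    rw [h1, ih, hy.norm]

omit [Finite K] in
/-- a fifth element -/
theorem exists_notMem (hc : E8 D) (s : Finset K) (hs : s.card < 8) : ∃ c ∈ D, c ∉ s := by
  classical
  by_contra hcon
  push Not at hcon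
  have h1 : (D : Set K) ⊆ s := fun c hc' => hcon c hc'
  have h2 : Nat.card D ≤ s.card := by
    have := Set.ncard_le_ncard h1 (Finset.finite_toSet s)
    rwa [Set.ncard_coe_finset] at this
  rw [hc.card] at h2
  omega

variable (hc : Cfg0 D x) {J : K → Subgroup K} (hJ : ∀ t ∈ D, t ≠ 1 → CI t (J t))
  (hy : ∀ y : K, ∀ t ∈ D, t ≠ 1 → ∀ g : K, y * g * y⁻¹ ∈ J (y * t * y⁻¹) ↔ g ∈ J t)

include hc hJ hy in
/-- **`D` centralizes all `J_t`** -/
theorem claim_one {t : K} (ht : t ∈ D) (ht1 : t ≠ 1) {s : K} (hs : s ∈ D) : Cz (J t) s := by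
  classical
  by_contra hcon
  obtain ⟨y, hy7⟩ := hc.seven
  -- by transitivity no `J_s` is centralized by `D`
  have hall : ∀ a ∈ D, a ≠ 1 → ∃ b ∈ D, ¬ Cz (J a) b := by
    intro a ha ha1
    obtain ⟨w, hw1, hw2⟩ := exists_w hy7 ht ht1 ha ha1
    refine ⟨w * s * w⁻¹, (hw1 s).2 hs, fun h => hcon ?_⟩
    intro g hg
    have h1 : w * g * w⁻¹ ∈ J a := by
      rw [← hw2]
      exact (hy w t ht ht1 g).2 hg
    have h2 := h _ h1
    calc s * g = w⁻¹ * (w * s * w⁻¹ * (w * g * w⁻¹)) * w := by group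
      _ = w⁻¹ * (w * g * w⁻¹ * (w * s * w⁻¹)) * w := by rw [h2]
      _ = g * s := by group
  have hs1 : s ≠ 1 := by
    rintro rfl
    exact hcon (Cz.one _)
  have hst : s ≠ t := by
    rintro rfl
    exact hcon (ci_cz (hJ s ht ht1))
  have hinv : ∀ d ∈ D, d⁻¹ = d := fun d hd => inv_eq_of_mul_eq_one_left (hc.e8.inv d hd)
  -- an element `a` of `C_D(J_t)` outside `⟨t, s⟩`
  obtain ⟨a, ha, ha1, hat, has, hats, hCa⟩ : ∃ a ∈ D, a ≠ 1 ∧ a ≠ t ∧ a ≠ s ∧ a ≠ t * s ∧ Cz (J t) a := by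
    obtain ⟨c, hcD, hcn⟩ := exists_notMem hc.e8 {1, t, s, t * s} (lt_of_le_of_lt Finset.card_le_four (by norm_num))
    simp only [Finset.mem_insert, Finset.mem_singleton, not_or] at hcn
    obtain ⟨c1, c2, c3, c4⟩ := hcn
    rcases F1 hc ht ht1 (hJ t ht ht1) hs hcD with h | h | h
    · exact absurd h hcon
    · exact ⟨c, hcD, c1, c2, c3, c4, h⟩
    · refine ⟨s * c, mul_mem hs hcD, ?_, ?_, ?_, ?_, h⟩
      · intro e
        apply c3
        rw [← inv_eq_of_mul_eq_one_right e, hinv s hs]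
      · intro e
        apply c4
        rw [← e, comm_D hc.e8 hs hcD, mul_assoc, hc.e8.inv s hs, mul_one]
      · intro e
        exact c1 (mul_eq_left.1 e)
      · intro e
        apply c2
        rw [comm_D hc.e8 ht hs] at e
        exact mul_left_cancel e
  -- replace `a` by `a'` centralizing `J_s`
  have hns : ¬ Cz (J s) t := fun h => hcon (ci_symm (hJ s hs hs1) (hJ t ht ht1) h)
  obtain ⟨a', ha', ha'1, ha't, ha's, hats', h1, h2⟩ : ∃ a' ∈ D, a' ≠ 1 ∧ a' ≠ t ∧ a' ≠ s ∧ a' ≠ t * s ∧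
      Cz (J t) a' ∧ Cz (J s) a' := by
    rcases F1 hc hs hs1 (hJ s hs hs1) ht ha with h | h | h
    · exact absurd h hns
    · exact ⟨a, ha, ha1, hat, has, hats, hCa, h⟩
    · refine ⟨t * a, mul_mem ht ha, ?_, ?_, ?_, ?_, (ci_cz (hJ t ht ht1)).mul hCa, h⟩
      · intro e
        apply hat
        rw [← inv_eq_of_mul_eq_one_right e, hinv t ht]
      · intro e
        exact ha1 (mul_eq_left.1 e)
      · intro e
        apply hats
        rw [← e, ← mul_assoc, hc.e8.inv t ht, one_mul]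
      · intro e
        exact has (mul_left_cancel e)
  have g1 : Cz (J a') t := ci_symm (hJ t ht ht1) (hJ a' ha' ha'1) h1
  have g2 : Cz (J a') s := ci_symm (hJ s hs hs1) (hJ a' ha' ha'1) h2
  have g3 : Cz (J a') a' := ci_cz (hJ a' ha' ha'1)
  obtain ⟨b, hb, hb'⟩ := hall a' ha' ha'1
  apply hb'
  -- the subgroup `C_D(J_a')`
  let S : Subgroup K :=
    { carrier := {d | d ∈ D ∧ Cz (J a') d}
      one_mem' := ⟨one_mem _, Cz.one _⟩
      mul_mem' := fun h h' => ⟨mul_mem h.1 h'.1, h.2.mul h'.2⟩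
      inv_mem' := fun h => ⟨inv_mem h.1, h.2.inv⟩ }
  have hSD : S ≤ D := fun d hd => hd.1
  have hS : S = D := by
    apply Subgroup.eq_of_le_of_card_ge hSD
    rw [hc.e8.card]
    have hdvd := Subgroup.card_dvd_of_le hSD
    rw [hc.e8.card] at hdvd
    have h5 : 5 ≤ Nat.card S := by
      have h6 : (({1, t, s, t * s, a'} : Finset K) : Set K) ⊆ S := by
        intro d hd
        simp only [Finset.coe_insert, Finset.coe_singleton, Set.mem_insert_iff, Set.mem_singleton_iff] at hd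
        rcases hd with rfl | rfl | rfl | rfl | rfl
        · exact one_mem _
        · exact ⟨ht, g1⟩
        · exact ⟨hs, g2⟩
        · exact ⟨mul_mem ht hs, g1.mul g2⟩
        · exact ⟨ha', g3⟩
      have h7 := Set.ncard_le_ncard h6 (Set.toFinite _)
      rw [Set.ncard_coe_finset] at h7
      have h8 : ({1, t, s, t * s, a'} : Finset K).card = 5 := by
        have n1 : (1 : K) ≠ t * s := by
          intro e
          apply hst
          rw [← inv_eq_of_mul_eq_one_right e.symm, hinv t ht]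
        have n2 : t ≠ t * s := fun e => hs1 (mul_eq_left.1 e.symm)
        have n3 : s ≠ t * s := fun e => ht1 (mul_eq_right.1 e.symm)
        rw [Finset.card_insert_of_notMem, Finset.card_insert_of_notMem, Finset.card_insert_of_notMem,
          Finset.card_insert_of_notMem, Finset.card_singleton]
        · simp only [Finset.mem_singleton]; exact hats'.symm
        · simp only [Finset.mem_insert, Finset.mem_singleton, not_or]; exact ⟨n3, ha's.symm⟩
        · simp only [Finset.mem_insert, Finset.mem_singleton, not_or]; exact ⟨hst.symm, n2, ha't.symm⟩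
        · simp only [Finset.mem_insert, Finset.mem_singleton, not_or]
          exact ⟨ht1.symm, hs1.symm, n1, ha'1.symm⟩
      rw [h8] at h7
      exact h7
    have h9 : Nat.card S ≤ 8 := Nat.le_of_dvd (by norm_num) hdvd
    interval_cases h10 : Nat.card S
    · exact absurd hdvd (by norm_num)
    · exact absurd hdvd (by norm_num)
    · exact absurd hdvd (by norm_num)
    · exact le_refl _
  have h10 : b ∈ S := by rw [hS]; exact hb
  exact h10.2

include hc hJ hy in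
/-- **the `J_t` commute pairwise** -/
theorem claim_two {t s : K} (ht : t ∈ D) (ht1 : t ≠ 1) (hs : s ∈ D) (hs1 : s ≠ 1) (hst : s ≠ t) {g h : K}
    (hg : g ∈ J t) (hh : h ∈ J s) : g * h = h * g := by
  have c1 : ∀ {a b : K}, a ∈ D → a ≠ 1 → b ∈ D → ∀ u ∈ J a, u * b = b * u := fun ha ha1 hb u hu =>
    (claim_one hc hJ hy ha ha1 hb u hu).symm
  -- the intersection is trivial
  have hA : J t ⊓ J s = ⊥ := by
    by_contra hne
    have h1 : t ∈ J t ⊓ J s := ⟨(hJ t ht ht1).mem, by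
      have := (hJ t ht ht1).cap (J t ⊓ J s) inf_le_left (by
        intro u hu a ha
        exact ⟨mul_mem (mul_mem hu ha.1) ((J t).inv_mem hu), (hJ s hs hs1).norm u (c1 ht ht1 hs u hu) a ha.2⟩) hne
      exact this.2⟩
    have h2 := (hJ s hs hs1).cap (Subgroup.zpowers t) (by
      rw [Subgroup.zpowers_le]; exact h1.2) (by
      rintro u hu _ ⟨n, rfl⟩
      have h3 : Commute u t := c1 hs hs1 ht u hu
      have h4 : u * t ^ n * u⁻¹ = t ^ n := by
        rw [(h3.zpow_right n).eq, mul_inv_cancel_right]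
      show u * t ^ n * u⁻¹ ∈ Subgroup.zpowers t
      rw [h4]
      exact ⟨n, rfl⟩) (by
      intro h3
      rw [Subgroup.zpowers_eq_bot] at h3
      exact ht1 h3)
    obtain ⟨n, hn⟩ := h2
    have htt := hc.e8.inv t ht
    have hn' : t ^ n = s := hn
    rcases Int.even_or_odd' n with ⟨m, rfl | rfl⟩
    · apply hs1
      rw [← hn', zpow_mul, zpow_two, htt, one_zpow]
    · apply hst
      rw [← hn', zpow_add, zpow_mul, zpow_two, htt, one_zpow, one_mul, zpow_one]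
  have h1 : g * h * g⁻¹ * h⁻¹ ∈ J t ⊓ J s := by
    refine ⟨?_, ?_⟩
    · have h2 := (hJ t ht ht1).norm h (c1 hs hs1 ht h hh) g⁻¹ ((J t).inv_mem hg)
      have h3 : g * h * g⁻¹ * h⁻¹ = g * (h * g⁻¹ * h⁻¹) := by group
      rw [h3]
      exact mul_mem hg h2
    · have h2 := (hJ s hs hs1).norm g (c1 ht ht1 hs g hg) h hh
      exact mul_mem h2 ((J s).inv_mem hh)
  rw [hA, Subgroup.mem_bot] at h1
  calc g * h = g * h * g⁻¹ * h⁻¹ * (h * g) := by group
    _ = h * g := by rw [h1, one_mul]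

end conf

section lin

variable {k : Type*} [Field k] {V : Type*} [AddCommGroup V] [Module k V]

theorem mem_P {A B C : Module.End k V} {x y z : k} {w : V} : w ∈ P A B C x y z ↔
    A w = x • w ∧ B w = y • w ∧ C w = z • w := by
  unfold P
  rw [Submodule.mem_inf, Submodule.mem_inf, mem_E, mem_E, mem_E]

theorem pow_apply {A : Module.End k V} {x : k} {w : V} (h : A w = x • w) (n : ℕ) : (A ^ n) w = x ^ n • w := by
  induction n with
  | zero => simp
  | succ n ih =>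
    rw [pow_succ, Module.End.mul_apply, h, map_smul, ih, smul_smul, pow_succ, mul_comm]

variable [FiniteDimensional k V]

omit [FiniteDimensional k V] in
open Classical in
theorem piece (h2 : (2 : k) ≠ 0) {W : Submodule k V} {S : Module.End k V} {c : k} (hc : c = 1 ∨ c = -1)
    (h : ∀ w ∈ W, S w = c • w) : finrank k ↥(E S (-1) ⊓ W) = if c = -1 then finrank k W else 0 := by
  have h1 : (1 : k) ≠ -1 := by
    intro e
    apply h2
    have : (2 : k) = 1 + 1 := by norm_num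
    rw [this]
    nth_rewrite 1 [e]
    exact neg_add_cancel 1
  rcases hc with rfl | rfl
  · rw [if_neg h1]
    exact piece_pos h2 (fun w hw => by rw [h w hw, one_smul])
  · rw [if_pos rfl]
    exact piece_neg (fun w hw => by rw [h w hw, neg_one_smul])

theorem sg_pow {x : k} (hx : x = 1 ∨ x = -1) (n : ℕ) : x ^ n = 1 ∨ x ^ n = -1 := by
  rcases hx with rfl | rfl
  · left; exact one_pow n
  · exact neg_one_pow_eq_or k n

theorem sg_mul {x y : k} (hx : x = 1 ∨ x = -1) (hy : y = 1 ∨ y = -1) : x * y = 1 ∨ x * y = -1 := by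
  rcases hx with rfl | rfl <;> rcases hy with rfl | rfl <;> simp

open Classical in
theorem count (h2 : (2 : k) ≠ 0) {A B C : Module.End k V} (hA : A * A = 1) (hB : B * B = 1) (hC : C * C = 1)
    (hAB : A * B = B * A) (hAC : A * C = C * A) (hBC : B * C = C * B) (p q r : ℕ) :
    finrank k ↥(E (A ^ p * B ^ q * C ^ r) (-1)) =
      (if (1 : k) ^ p * 1 ^ q * 1 ^ r = -1 then finrank k ↥(P A B C 1 1 1) else 0) +
      (if (1 : k) ^ p * 1 ^ q * (-1) ^ r = -1 then finrank k ↥(P A B C 1 1 (-1)) else 0) +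
      ((if (1 : k) ^ p * (-1) ^ q * 1 ^ r = -1 then finrank k ↥(P A B C 1 (-1) 1) else 0) +
      (if (1 : k) ^ p * (-1) ^ q * (-1) ^ r = -1 then finrank k ↥(P A B C 1 (-1) (-1)) else 0)) +
      ((if (-1 : k) ^ p * 1 ^ q * 1 ^ r = -1 then finrank k ↥(P A B C (-1) 1 1) else 0) +
      (if (-1 : k) ^ p * 1 ^ q * (-1) ^ r = -1 then finrank k ↥(P A B C (-1) 1 (-1)) else 0) +
      ((if (-1 : k) ^ p * (-1) ^ q * 1 ^ r = -1 then finrank k ↥(P A B C (-1) (-1) 1) else 0) +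
      (if (-1 : k) ^ p * (-1) ^ q * (-1) ^ r = -1 then finrank k ↥(P A B C (-1) (-1) (-1)) else 0))) := by
  set S := A ^ p * B ^ q * C ^ r with hS
  have cAB : Commute A B := hAB
  have cAC : Commute A C := hAC
  have cBC : Commute B C := hBC
  have cSA : Commute S A := (((Commute.refl A).pow_left p).mul_left (cAB.symm.pow_left q)).mul_left (cAC.symm.pow_left r)
  have cSB : Commute S B := ((cAB.pow_left p).mul_left ((Commute.refl B).pow_left q)).mul_left (cBC.symm.pow_left r)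
  have cSC : Commute S C := ((cAC.pow_left p).mul_left (cBC.pow_left q)).mul_left ((Commute.refl C).pow_left r)
  have inv : ∀ {T : Module.End k V}, Commute S T → ∀ u ∈ E S (-1), T u ∈ E S (-1) := by
    intro T hT u hu
    rw [mem_E] at hu ⊢
    have h1 : S (T u) = T (S u) := LinearMap.congr_fun hT.eq u
    rw [h1, hu, map_smul]
  have sq : ∀ {T : Module.End k V}, T * T = 1 → ∀ u ∈ E S (-1), T (T u) = u := by
    intro T hT u _
    exact LinearMap.congr_fun hT u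
  have act : ∀ x y z : k, ∀ w ∈ P A B C x y z, S w = (x ^ p * y ^ q * z ^ r) • w := by
    intro x y z w hw
    obtain ⟨h3, h4, h5⟩ := mem_P.1 hw
    rw [hS, Module.End.mul_apply, Module.End.mul_apply, pow_apply h5, map_smul, map_smul, pow_apply h4, map_smul,
      pow_apply h3, smul_smul, smul_smul]
    congr 1
    ring
  have e1 : (1 : k) = 1 ∨ (1 : k) = -1 := Or.inl rfl
  have e2 : (-1 : k) = 1 ∨ (-1 : k) = -1 := Or.inr rfl
  have pc : ∀ {x y z : k}, (x = 1 ∨ x = -1) → (y = 1 ∨ y = -1) → (z = 1 ∨ z = -1) →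
      finrank k ↥(E S (-1) ⊓ P A B C x y z) = if x ^ p * y ^ q * z ^ r = -1 then finrank k ↥(P A B C x y z) else 0 :=
    fun hx hy hz => piece h2 (sg_mul (sg_mul (sg_pow hx p) (sg_pow hy q)) (sg_pow hz r)) (act _ _ _)
  rw [split_three h2 (inv cSA) (sq hA) (inv cSB) (sq hB) (inv cSC) (sq hC) hAB hAC hBC,
    pc e1 e1 e1, pc e1 e1 e2, pc e1 e2 e1, pc e1 e2 e2, pc e2 e1 e1, pc e2 e1 e2, pc e2 e2 e1, pc e2 e2 e2]

/-- the weight spaces have the same dimension -/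
theorem four (h2 : (2 : k) ≠ 0) {A B C : Module.End k V} (hA : A * A = 1) (hB : B * B = 1) (hC : C * C = 1)
    (hAB : A * B = B * A) (hAC : A * C = C * A) (hBC : B * C = C * B) {e : ℕ}
    (h : ∀ p q r : ℕ, p < 2 → q < 2 → r < 2 → p + q + r ≠ 0 → finrank k ↥(E (A ^ p * B ^ q * C ^ r) (-1)) = e) :
    e = 4 * finrank k ↥(P A B C (-1) 1 1) := by
  classical
  have h1 : (1 : k) ≠ -1 := by
    intro e
    apply h2
    have : (2 : k) = 1 + 1 := by norm_num
    rw [this]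
    nth_rewrite 1 [e]
    exact neg_add_cancel 1
  have c := count h2 hA hB hC hAB hAC hBC
  have c1 := (c 1 0 0).symm.trans (h 1 0 0 (by norm_num) (by norm_num) (by norm_num) (by norm_num))
  have c2 := (c 0 1 0).symm.trans (h 0 1 0 (by norm_num) (by norm_num) (by norm_num) (by norm_num))
  have c3 := (c 0 0 1).symm.trans (h 0 0 1 (by norm_num) (by norm_num) (by norm_num) (by norm_num))
  have c4 := (c 1 1 0).symm.trans (h 1 1 0 (by norm_num) (by norm_num) (by norm_num) (by norm_num))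
  have c5 := (c 1 0 1).symm.trans (h 1 0 1 (by norm_num) (by norm_num) (by norm_num) (by norm_num))
  have c6 := (c 0 1 1).symm.trans (h 0 1 1 (by norm_num) (by norm_num) (by norm_num) (by norm_num))
  have c7 := (c 1 1 1).symm.trans (h 1 1 1 (by norm_num) (by norm_num) (by norm_num) (by norm_num))
  simp only [pow_zero, pow_one, mul_one, neg_neg, mul_neg, if_neg h1, if_true, zero_add,
    add_zero] at c1 c2 c3 c4 c5 c6 c7
  omega

end lin

/-- **X1: the classical involution argument.** -/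
theorem X1 {K : Type u} [Group K] [Finite K] {D : Subgroup K} {x : K} (hc : Cfg0 D x) (J : K → Subgroup K)
    (hJ : ∀ t ∈ D, t ≠ 1 → CI t (J t))
    (hy : ∀ y : K, ∀ t ∈ D, t ≠ 1 → ∀ g : K, y * g * y⁻¹ ∈ J (y * t * y⁻¹) ↔ g ∈ J t)
    {k : Type} [Field k] [Finite k] (h2 : (2 : k) ≠ 0) {V : Type} [AddCommGroup V] [Module k V] [FiniteDimensional k V]
    (ρ : K →* Module.End k V) :
    (∀ t ∈ D, t ≠ 1 → ∀ g ∈ J t, ∀ s ∈ D, g * s = s * g) ∧
    (∀ t ∈ D, t ≠ 1 → ∀ s ∈ D, s ≠ 1 → s ≠ t → ∀ g ∈ J t, ∀ h ∈ J s, g * h = h * g) ∧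
    (∀ t ∈ D, t ≠ 1 → 64 ∣ Module.finrank k ↥(LinearMap.ker (ρ t + 1))) := by
  have cl1 : ∀ t ∈ D, t ≠ 1 → ∀ g ∈ J t, ∀ s ∈ D, g * s = s * g :=
    fun t ht ht1 g hg s hs => (claim_one hc hJ hy ht ht1 hs g hg).symm
  have cl2 : ∀ t ∈ D, t ≠ 1 → ∀ s ∈ D, s ≠ 1 → s ≠ t → ∀ g ∈ J t, ∀ h ∈ J s, g * h = h * g :=
    fun t ht ht1 s hs hs1 hst g hg h hh => claim_two hc hJ hy ht ht1 hs hs1 hst hg hh
  refine ⟨cl1, cl2, fun t ht ht1 => ?_⟩
  have hker : ∀ s : K, LinearMap.ker (ρ s + 1) = E (ρ s) (-1) := by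
    intro s
    ext v
    rw [LinearMap.mem_ker, mem_E, LinearMap.add_apply, Module.End.one_apply, neg_one_smul, add_eq_zero_iff_eq_neg]
  rw [hker t]
  obtain ⟨y, hy7⟩ := hc.seven
  -- all `(-1)`-eigenspaces have the same dimension
  have hle : ∀ {a b : K}, a ∈ D → a ≠ 1 → b ∈ D → b ≠ 1 →
      finrank k ↥(E (ρ a) (-1)) ≤ finrank k ↥(E (ρ b) (-1)) := by
    intro a b ha ha1 hb hb1
    obtain ⟨w, -, hw⟩ := exists_w hy7 ha ha1 hb hb1
    refine le_of_inj (L := ρ w) ?_ ?_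
    · intro v hv
      rw [mem_E] at hv ⊢
      have h3 : ρ b (ρ w v) = ρ w (ρ a v) := by
        have h4 : b * w = w * a := by rw [← hw]; group
        have h5 : ρ b * ρ w = ρ w * ρ a := by rw [← map_mul, ← map_mul, h4]
        exact LinearMap.congr_fun h5 v
      rw [h3, hv, map_smul]
    · intro v _ hv
      have h3 : ρ w⁻¹ (ρ w v) = v := by
        have h5 : ρ w⁻¹ * ρ w = 1 := by rw [← map_mul, inv_mul_cancel, map_one]
        exact LinearMap.congr_fun h5 v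
      rw [← h3, hv, map_zero]
  have heq : ∀ {b : K}, b ∈ D → b ≠ 1 → finrank k ↥(E (ρ b) (-1)) = finrank k ↥(E (ρ t) (-1)) :=
    fun hb hb1 => le_antisymm (hle hb hb1 ht ht1) (hle ht ht1 hb hb1)
  -- generators of `D`
  classical
  obtain ⟨a, ha, han⟩ := exists_notMem hc.e8 {1, t} (lt_of_le_of_lt Finset.card_le_two (by norm_num))
  obtain ⟨b, hb, hbn⟩ := exists_notMem hc.e8 {1, t, a, t * a} (lt_of_le_of_lt Finset.card_le_four (by norm_num))
  simp only [Finset.mem_insert, Finset.mem_singleton, not_or] at han hbn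
  obtain ⟨ha1, hat⟩ := han
  obtain ⟨hb1, hbt, hba, hbta⟩ := hbn
  have hinv : ∀ d ∈ D, d⁻¹ = d := fun d hd => inv_eq_of_mul_eq_one_left (hc.e8.inv d hd)
  have nta : t * a ≠ 1 := fun e => hat (by rw [← inv_eq_of_mul_eq_one_right e, hinv t ht])
  have ntb : t * b ≠ 1 := fun e => hbt (by rw [← inv_eq_of_mul_eq_one_right e, hinv t ht])
  have nab : a * b ≠ 1 := fun e => hba (by rw [← inv_eq_of_mul_eq_one_right e, hinv a ha])
  have ntab : t * a * b ≠ 1 := fun e => hbta (by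
    rw [← inv_eq_of_mul_eq_one_right e, hinv _ (mul_mem ht ha)])
  have sq : ∀ s ∈ D, ρ s * ρ s = 1 := fun s hs => by rw [← map_mul, hc.e8.inv s hs, map_one]
  have cm : ∀ s ∈ D, ∀ s' ∈ D, ρ s * ρ s' = ρ s' * ρ s := fun s hs s' hs' => by
    rw [← map_mul, ← map_mul, comm_D hc.e8 hs hs']
  have hfour := four h2 (sq t ht) (sq a ha) (sq b hb) (cm t ht a ha) (cm t ht b hb) (cm a ha b hb)
    (e := finrank k ↥(E (ρ t) (-1))) (by
      intro p q r hp hq hr hpqr
      rw [← map_pow, ← map_pow, ← map_pow, ← map_mul, ← map_mul]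
      have m1 : t ^ p * a ^ q * b ^ r ∈ D := mul_mem (mul_mem (pow_mem ht p) (pow_mem ha q)) (pow_mem hb r)
      refine heq m1 ?_
      interval_cases p <;> interval_cases q <;> interval_cases r <;>
        simp only [pow_zero, pow_one, one_mul, mul_one, ne_eq, not_false_eq_true, ht1, ha1, hb1, nta, ntb, nab,
          ntab] <;> simp at hpqr)
  rw [hfour]
  have h64 : (64 : ℕ) = 4 * 2 ^ 4 := by norm_num
  rw [h64]
  refine mul_dvd_mul_left 4 ?_
  -- four commuting quaternion groups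
  have q8 : ∀ s ∈ D, s ≠ 1 → ∃ i ∈ J s, ∃ j ∈ J s, i * i = s ∧ j * j = s ∧ i * j = s * (j * i) :=
    fun s hs hs1 => (hJ s hs hs1).q8
  have mta := mul_mem ht ha
  have mtb := mul_mem ht hb
  have mtab := mul_mem mta hb
  obtain ⟨i₁, mi₁, j₁, mj₁, r₁⟩ := q8 t ht ht1
  obtain ⟨i₂, mi₂, j₂, mj₂, r₂⟩ := q8 (t * a) mta nta
  obtain ⟨i₃, mi₃, j₃, mj₃, r₃⟩ := q8 (t * b) mtb ntb
  obtain ⟨i₄, mi₄, j₄, mj₄, r₄⟩ := q8 (t * a * b) mtab ntab
  have four4 : ([(ρ i₁, ρ j₁), (ρ i₂, ρ j₂), (ρ i₃, ρ j₃), (ρ i₄, ρ j₄)] :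
      List (Module.End k V × Module.End k V)).length = 4 := rfl
  rw [← four4]
  have cmm : ∀ {s s' : K}, s ∈ D → s ≠ 1 → s' ∈ D → s' ≠ 1 → s' ≠ s → ∀ {i j i' j' : K}, i ∈ J s → j ∈ J s →
      i' ∈ J s' → j' ∈ J s' → ρ i * ρ i' = ρ i' * ρ i ∧ ρ i * ρ j' = ρ j' * ρ i ∧ ρ j * ρ i' = ρ i' * ρ j ∧
        ρ j * ρ j' = ρ j' * ρ j := by
    intro s s' hs hs1 hs' hs1' hne i j i' j' hi hj hi' hj'
    simp only [← map_mul]
    rw [cl2 s hs hs1 s' hs' hs1' hne i hi i' hi', cl2 s hs hs1 s' hs' hs1' hne i hi j' hj',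
      cl2 s hs hs1 s' hs' hs1' hne j hj i' hi', cl2 s hs hs1 s' hs' hs1' hne j hj j' hj']
    exact ⟨rfl, rfl, rfl, rfl⟩
  have good : ∀ {s : K} (_ : s ∈ D) (_ : s ≠ 1) (_ : ∀ u ∈ P (ρ t) (ρ a) (ρ b) (-1 : k) 1 1, ρ s u = -u) {i j : K}
      (_ : i ∈ J s) (_ : j ∈ J s) (_ : i * i = s ∧ j * j = s ∧ i * j = s * (j * i)),
      (∀ u ∈ P (ρ t) (ρ a) (ρ b) (-1 : k) 1 1, ρ i u ∈ P (ρ t) (ρ a) (ρ b) (-1 : k) 1 1) ∧
      (∀ u ∈ P (ρ t) (ρ a) (ρ b) (-1 : k) 1 1, ρ j u ∈ P (ρ t) (ρ a) (ρ b) (-1 : k) 1 1) ∧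
      (∀ u ∈ P (ρ t) (ρ a) (ρ b) (-1 : k) 1 1, ρ i (ρ i u) = -u) ∧
      (∀ u ∈ P (ρ t) (ρ a) (ρ b) (-1 : k) 1 1, ρ j (ρ j u) = -u) ∧
      ∀ u ∈ P (ρ t) (ρ a) (ρ b) (-1 : k) 1 1, ρ i (ρ j u) = -ρ j (ρ i u) := by
    rintro s hs hs1 hneg i j hi hj ⟨r1, r2, r3⟩
    have mv : ∀ g ∈ J s, ∀ u ∈ P (ρ t) (ρ a) (ρ b) (-1 : k) 1 1, ρ g u ∈ P (ρ t) (ρ a) (ρ b) (-1 : k) 1 1 := by
      intro g hg u hu
      obtain ⟨u1, u2, u3⟩ := mem_P.1 hu
      have sw : ∀ d ∈ D, ρ d (ρ g u) = ρ g (ρ d u) := by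
        intro d hd
        have h5 : ρ d * ρ g = ρ g * ρ d := by rw [← map_mul, ← map_mul, cl1 s hs hs1 g hg d hd]
        exact LinearMap.congr_fun h5 u
      exact mem_P.2 ⟨by rw [sw t ht, u1, map_smul], by rw [sw a ha, u2, map_smul], by rw [sw b hb, u3, map_smul]⟩
    refine ⟨mv i hi, mv j hj, ?_, ?_, ?_⟩
    · intro u hu
      rw [← hneg u hu, ← r1, map_mul]
      rfl
    · intro u hu
      rw [← hneg u hu, ← r2, map_mul]
      rfl
    · intro u hu
      have h5 : ρ i * ρ j = ρ s * (ρ j * ρ i) := by rw [← map_mul, r3, map_mul, map_mul]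
      have h6 : ρ i (ρ j u) = ρ s (ρ j (ρ i u)) := LinearMap.congr_fun h5 u
      rw [h6, hneg _ (mv j hj _ (mv i hi u hu))]
  have n1 : ∀ u ∈ P (ρ t) (ρ a) (ρ b) (-1 : k) 1 1, ρ t u = -u := by
    intro u hu
    rw [(mem_P.1 hu).1, neg_one_smul]
  have n2 : ∀ u ∈ P (ρ t) (ρ a) (ρ b) (-1 : k) 1 1, ρ (t * a) u = -u := by
    intro u hu
    rw [map_mul, Module.End.mul_apply, (mem_P.1 hu).2.1, one_smul, n1 u hu]
  have n3 : ∀ u ∈ P (ρ t) (ρ a) (ρ b) (-1 : k) 1 1, ρ (t * b) u = -u := by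
    intro u hu
    rw [map_mul, Module.End.mul_apply, (mem_P.1 hu).2.2, one_smul, n1 u hu]
  have n4 : ∀ u ∈ P (ρ t) (ρ a) (ρ b) (-1 : k) 1 1, ρ (t * a * b) u = -u := by
    intro u hu
    rw [map_mul, Module.End.mul_apply, (mem_P.1 hu).2.2, one_smul, n2 u hu]
  have d1 : t * a ≠ t := fun e => ha1 (mul_eq_left.1 e)
  have d2 : t * b ≠ t := fun e => hb1 (mul_eq_left.1 e)
  have d3 : t * a * b ≠ t := fun e => nab (by rw [mul_assoc] at e; exact mul_eq_left.1 e)
  have d4 : t * b ≠ t * a := fun e => hba (mul_left_cancel e)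
  have d5 : t * a * b ≠ t * a := fun e => hb1 (mul_eq_left.1 e)
  have d6 : t * a * b ≠ t * b := fun e => ha1 (by
    rw [mul_assoc] at e
    exact mul_eq_right.1 (mul_left_cancel e))
  refine pow_dvd h2 _ ?_ _ ?_
  · simp only [List.pairwise_cons, List.mem_cons, List.not_mem_nil, or_false, forall_eq_or_imp, forall_eq,
      List.Pairwise.nil, and_true, IsEmpty.forall_iff, implies_true]
    exact ⟨⟨cmm ht ht1 mta nta d1 mi₁ mj₁ mi₂ mj₂, cmm ht ht1 mtb ntb d2 mi₁ mj₁ mi₃ mj₃,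
      cmm ht ht1 mtab ntab d3 mi₁ mj₁ mi₄ mj₄⟩, ⟨cmm mta nta mtb ntb d4 mi₂ mj₂ mi₃ mj₃,
      cmm mta nta mtab ntab d5 mi₂ mj₂ mi₄ mj₄⟩, cmm mtb ntb mtab ntab d6 mi₃ mj₃ mi₄ mj₄⟩
  · intro p hp
    simp only [List.mem_cons, List.not_mem_nil, or_false] at hp
    rcases hp with rfl | rfl | rfl | rfl
    · exact good ht ht1 n1 mi₁ mj₁ r₁
    · exact good mta nta n2 mi₂ mj₂ r₂
    · exact good mtb ntb n3 mi₃ mj₃ r₃
    · exact good mtab ntab n4 mi₄ mj₄ r₄

end Cfsg.Agent.H40.KKL
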