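import Cfsg.Agent.H613.KKL.CI

/-!
# S4546, X: classical involutions: the interface `CI` is in `Cfsg.Agent.H613.KKL.CI` (helper40)
-/

set_option autoImplicit false

namespace Cfsg.Agent.H40.KKL

/-- the structure of `Cfsg.Agent.H613.KKL.CI` -/
abbrev CI {K : Type*} [Group K] (t : K) (J : Subgroup K) : Prop := Cfsg.Agent.H613.KKL.CI t J

end Cfsg.Agent.H40.KKL
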